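import Cfsg.Agent.Lib.InvChar.CenterFour.Main
import Cfsg.Agent.Lib.Pres.SLTwo
import Mathlib

/-!
# π-homogeneous simple groups with four-group Sylow 2-subgroups

Given the dihedral theorem: a simple group with a Klein four Sylow 2-subgroup cannot be
π-homogeneous with all π-subgroups having normal Sylow 2-subgroups, for `2 ∈ π`.
-/

set_option autoImplicit false
set_option linter.style.haveILetI false

namespace CfsgLib.InvChar.PiHomog

open Subgroup Matrix
open scoped MatrixGroups

universe u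

section Models

variable {F : Type*} [Field F] [Fintype F]

local notation "PS" => Matrix.ProjectiveSpecialLinearGroup (Fin 2) F
local notation "mk" => QuotientGroup.mk' (Subgroup.center (Matrix.SpecialLinearGroup (Fin 2) F))

omit [Fintype F] in
theorem mk_eq_one_iff (A : SL(2, F)) :
    mk A = 1 ↔ ∃ c : F, c ^ 2 = 1 ∧ (A : Matrix (Fin 2) (Fin 2) F) = !![c, 0; 0, c] := by
  rw [QuotientGroup.mk'_apply, QuotientGroup.eq_one_iff, Matrix.SpecialLinearGroup.mem_center_iff]
  have e : ∀ c : F, scalar (Fin 2) c = !![c, 0; 0, c] := fun c => by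
    ext i j; fin_cases i <;> fin_cases j <;> simp
  simp only [Fintype.card_fin, e]
  exact ⟨fun ⟨c, h1, h2⟩ => ⟨c, h1, h2.symm⟩, fun ⟨c, h1, h2⟩ => ⟨c, h1, h2.symm⟩⟩

/-- Away from characteristics two and three, `PSL₂` contains an inverted element of order three. -/
theorem exists_inverted_three (h2 : (2 : F) ≠ 0) (h3 : (3 : F) ≠ 0) :
    ∃ x t : PS, orderOf x = 3 ∧ t * t = 1 ∧ t * x * t⁻¹ = x⁻¹ := by
  classical
  obtain ⟨a, b, hab⟩ : ∃ a b : F, a ^ 2 + a * b + b ^ 2 = -1 := by
    obtain ⟨x, y, hxy⟩ := FiniteField.exists_root_sum_quadratic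
      (f := (Polynomial.X : Polynomial F) ^ 2)
      (g := Polynomial.C (3 : F) * Polynomial.X ^ 2 + Polynomial.C 4)
      (by simp) (by
        rw [Polynomial.degree_add_C (by rw [Polynomial.degree_C_mul_X_pow 2 h3]; norm_num),
          Polynomial.degree_C_mul_X_pow 2 h3]; rfl)
      (FiniteField.odd_card_of_char_ne_two fun e => h2 (by
        have := ringChar.Nat.cast_ringChar (R := F)
        rw [e] at this
        exact_mod_cast this))
    simp only [Polynomial.eval_pow, Polynomial.eval_X, Polynomial.eval_add, Polynomial.eval_mul,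
      Polynomial.eval_C] at hxy
    refine ⟨(x - y) / 2, y, ?_⟩
    field_simp
    linear_combination hxy
  let A : SL(2, F) := ⟨!![0, -1; 1, -1], by simp [Matrix.det_fin_two]⟩
  let J : SL(2, F) := ⟨!![a, b; a + b, -a], by
    rw [Matrix.det_fin_two_of]; linear_combination (-1 : F) * hab⟩
  refine ⟨mk A, mk J, orderOf_eq_prime ?_ ?_, ?_, ?_⟩
  · rw [← map_pow, mk_eq_one_iff]
    refine ⟨1, one_pow 2, ?_⟩
    show ((A ^ 3 : SL(2, F)) : Matrix (Fin 2) (Fin 2) F) = _
    rw [Matrix.SpecialLinearGroup.coe_pow, pow_succ, sq]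
    ext i j
    fin_cases i <;> fin_cases j <;> simp [A, Matrix.mul_apply, Fin.sum_univ_two]
  · rw [Ne, mk_eq_one_iff]
    rintro ⟨c, -, hc⟩
    simpa [A] using congrFun (congrFun hc 1) 0
  · rw [← map_mul, mk_eq_one_iff]
    refine ⟨-1, by norm_num, ?_⟩
    rw [Matrix.SpecialLinearGroup.coe_mul]
    ext i j
    fin_cases i <;> fin_cases j <;> simp [J, Matrix.mul_apply, Fin.sum_univ_two] <;>
      first | linear_combination hab | linear_combination -hab | ring
  · rw [eq_inv_iff_mul_eq_one, ← map_inv, ← map_mul, ← map_mul, ← map_mul]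
    have e : J * A * J⁻¹ = A⁻¹ := by
      rw [mul_inv_eq_iff_eq_mul, eq_inv_mul_iff_mul_eq]
      ext i j
      simp only [Matrix.SpecialLinearGroup.coe_mul]
      fin_cases i <;> fin_cases j <;> simp [A, J, Matrix.mul_apply, Fin.sum_univ_two] <;>
        ring
    rw [e, inv_mul_cancel, map_one]

/-- In characteristic three, an inverted element of odd prime order dividing `q - 1` acting
nontrivially on a 3-subgroup. -/
theorem exists_inverted_torus (h3 : (3 : F) = 0) {r : ℕ} [hr : Fact r.Prime] (hr2 : r ≠ 2)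
    (hdvd : r ∣ Fintype.card F - 1) :
    ∃ (d t : PS) (H : Subgroup PS), orderOf d = r ∧ t * t = 1 ∧ t * d * t⁻¹ = d⁻¹ ∧
      IsPGroup 3 H ∧ H ≠ ⊥ ∧ d ∈ normalizer (H : Set PS) ∧ d ∉ centralizer (H : Set PS) := by
  classical
  obtain ⟨s, hs⟩ := exists_prime_orderOf_dvd_card' (G := Fˣ) r
    (by rw [Nat.card_units, Nat.card_eq_fintype_card]; exact hdvd)
  have hs1 : (s : F) ≠ 1 := fun e => by
    rw [Units.val_eq_one.1 e, orderOf_one] at hs; exact hr.out.ne_one hs.symm
  have hs2 : (s : F) ^ 2 ≠ 1 := fun e => by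
    have : orderOf s ∣ 2 := orderOf_dvd_of_pow_eq_one (Units.ext (by simpa using e))
    rw [hs] at this
    exact hr2 ((Nat.prime_dvd_prime_iff_eq hr.out Nat.prime_two).1 this)
  let D : SL(2, F) := ⟨!![(s : F), 0; 0, ((s⁻¹ : Fˣ) : F)], by simp [Matrix.det_fin_two]⟩
  let W : SL(2, F) := ⟨!![0, 1; -1, 0], by simp [Matrix.det_fin_two]⟩
  let up : F → SL(2, F) := fun b => ⟨!![1, b; 0, 1], by simp [Matrix.det_fin_two]⟩
  have up_mul : ∀ b c, up b * up c = up (b + c) := fun b c => by
    ext i j; simp only [Matrix.SpecialLinearGroup.coe_mul]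
    fin_cases i <;> fin_cases j <;> simp [up, Matrix.mul_apply, Fin.sum_univ_two, add_comm]
  have up_zero : up 0 = 1 := by
    ext i j; fin_cases i <;> fin_cases j <;> simp [up]
  let φ : Multiplicative F →* PS := MonoidHom.mk' (fun b => mk (up (Multiplicative.toAdd b)))
    fun b c => by rw [← map_mul, up_mul]; rfl
  have hDpow : ∀ n : ℕ, ((D ^ n : SL(2, F)) : Matrix (Fin 2) (Fin 2) F) =
      !![(s : F) ^ n, 0; 0, ((s⁻¹ : Fˣ) : F) ^ n] := by
    intro n
    induction n with
    | zero => ext i j; fin_cases i <;> fin_cases j <;> simp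
    | succ n ih =>
      rw [pow_succ, Matrix.SpecialLinearGroup.coe_mul, ih]
      ext i j
      fin_cases i <;> fin_cases j <;> simp [D, Matrix.mul_apply, Fin.sum_univ_two, pow_succ]
  have hDup : ∀ b, D * up b * D⁻¹ = up ((s : F) ^ 2 * b) := fun b => by
    rw [mul_inv_eq_iff_eq_mul]
    ext i j
    simp only [Matrix.SpecialLinearGroup.coe_mul]
    fin_cases i <;> fin_cases j <;> simp [D, up, Matrix.mul_apply, Fin.sum_univ_two]
    field_simp
  refine ⟨mk D, mk W, φ.range, orderOf_eq_prime ?_ ?_, ?_, ?_, ?_, ?_, ?_, ?_⟩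
  · rw [← map_pow, mk_eq_one_iff]
    refine ⟨1, one_pow 2, ?_⟩
    have h1 : (s : F) ^ r = 1 := by
      rw [← Units.val_pow_eq_pow_val, ← hs, pow_orderOf_eq_one, Units.val_one]
    have h2 : ((s⁻¹ : Fˣ) : F) ^ r = 1 := by
      rw [← Units.val_pow_eq_pow_val, inv_pow, ← hs, pow_orderOf_eq_one, inv_one, Units.val_one]
    rw [hDpow, h1, h2]
  · rw [Ne, mk_eq_one_iff]
    rintro ⟨c, -, hc⟩
    have e1 := congrFun (congrFun hc 0) 0
    have e2 := congrFun (congrFun hc 1) 1
    simp [D] at e1 e2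
    exact hs2 (by
      rw [← e1] at e2
      field_simp at e2
      exact e2.symm)
  · rw [← map_mul, mk_eq_one_iff]
    refine ⟨-1, by norm_num, ?_⟩
    rw [Matrix.SpecialLinearGroup.coe_mul]
    ext i j
    fin_cases i <;> fin_cases j <;> simp [W, Matrix.mul_apply, Fin.sum_univ_two]
  · rw [eq_inv_iff_mul_eq_one, ← map_inv, ← map_mul, ← map_mul, ← map_mul]
    have e : W * D * W⁻¹ = D⁻¹ := by
      rw [mul_inv_eq_iff_eq_mul, eq_inv_mul_iff_mul_eq]
      ext i j
      simp only [Matrix.SpecialLinearGroup.coe_mul]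
      fin_cases i <;> fin_cases j <;> simp [W, D, Matrix.mul_apply, Fin.sum_univ_two]
    rw [e, inv_mul_cancel, map_one]
  · rintro ⟨_, b, rfl⟩
    refine ⟨1, Subtype.ext ?_⟩
    rw [pow_one, SubmonoidClass.coe_pow, coe_one, ← map_pow]
    have e : b ^ 3 = 1 := by
      apply Multiplicative.toAdd.injective
      rw [toAdd_pow, toAdd_one, nsmul_eq_mul, Nat.cast_ofNat, h3, zero_mul]
    rw [e, map_one]
  · intro e
    have h1 : φ (Multiplicative.ofAdd 1) = 1 := mem_bot.1 (e ▸ ⟨_, rfl⟩)
    obtain ⟨c, -, hc⟩ := (mk_eq_one_iff _).1 h1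
    simpa [up] using congrFun (congrFun hc 0) 1
  · haveI : Finite (φ.range : Set PS) := Set.toFinite _
    refine mem_normalizer_fintype fun y hy => ?_
    obtain ⟨b, rfl⟩ := hy
    refine ⟨Multiplicative.ofAdd ((s : F) ^ 2 * Multiplicative.toAdd b), ?_⟩
    show mk (up _) = mk D * mk (up _) * (mk D)⁻¹
    rw [← map_inv, ← map_mul, ← map_mul, hDup]
    rfl
  · intro hmem
    have h1 := mem_centralizer_iff.1 hmem (φ (Multiplicative.ofAdd 1)) ⟨_, rfl⟩
    have h1' : mk (up 1) * mk D = mk D * mk (up 1) := h1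
    have h2 : mk (up ((s : F) ^ 2 - 1)) = 1 := by
      rw [sub_eq_add_neg, ← up_mul, map_mul]
      have h3 : mk (up ((s : F) ^ 2)) = mk (up 1) := by
        rw [← mul_one ((s : F) ^ 2), ← hDup, map_mul, map_mul, map_inv, ← h1', mul_inv_cancel_right]
      rw [h3, ← map_mul, up_mul, add_neg_cancel, up_zero, map_one]
    obtain ⟨c, -, hc⟩ := (mk_eq_one_iff _).1 h2
    exact hs2 (sub_eq_zero.1 (by simpa [up] using congrFun (congrFun hc 0) 1))

end Models

variable {G : Type u} [Group G] [Finite G] {π : Set ℕ}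

/-- An inverted element of odd prime order in `π` gives a π-subgroup without normal Sylow 2. -/
theorem false_of_inverted (h2 : 2 ∈ π)
    (hcl : ∀ H : Subgroup G, (∀ p : ℕ, p.Prime → p ∣ Nat.card ↥H → p ∈ π) →
      ∀ P : Sylow 2 ↥H, (P : Subgroup ↥H).Normal)
    {r : ℕ} (hr : r.Prime) (hr2 : r ≠ 2) (hrπ : r ∈ π) {x t : G} (hx : orderOf x = r)
    (ht : t * t = 1) (hxt : t * x * t⁻¹ = x⁻¹) : False := by
  haveI : Fact (Nat.Prime 2) := ⟨Nat.prime_two⟩
  haveI : Finite (zpowers x : Set G) := Set.toFinite _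
  have htn : t ∈ normalizer ((zpowers x : Subgroup G) : Set G) := by
    refine mem_normalizer_fintype fun y hy => ?_
    obtain ⟨i, rfl⟩ := mem_zpowers_iff.1 hy
    rw [SetLike.mem_coe, ← conj_zpow, hxt]
    exact zpow_mem (inv_mem (mem_zpowers x)) i
  have hx1 : x ≠ 1 := fun e => hr.ne_one (by rw [← hx, e, orderOf_one])
  have ht1 : t ≠ 1 := fun e => hr2 (by
    have h1 : x * x = 1 := by
      rw [e] at hxt
      have h : x = x⁻¹ := by simpa using hxt
      nth_rewrite 2 [h]; exact mul_inv_cancel x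
    have := orderOf_dvd_of_pow_eq_one (x := x) (n := 2) (by rw [sq]; exact h1)
    rw [hx] at this
    exact (Nat.prime_dvd_prime_iff_eq hr Nat.prime_two).1 this)
  have hto : orderOf t = 2 := orderOf_eq_prime (by rw [sq]; exact ht) ht1
  set H := zpowers x ⊔ zpowers t with hH
  have hcard : Nat.card H ∣ r * 2 := by
    have hle : zpowers t ≤ normalizer ((zpowers x : Subgroup G) : Set G) := zpowers_le.2 htn
    have h1 := relIndex_mul_relIndex ⊥ (zpowers x) H bot_le le_sup_left
    rw [relIndex_bot_left, relIndex_bot_left, Nat.card_zpowers, hx] at h1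
    have h3 : (zpowers x).relIndex H ∣ 2 := by
      haveI : ((zpowers x).subgroupOf H).Normal := (normal_subgroupOf_iff_le_normalizer le_sup_left).2
        (sup_le le_normalizer hle)
      have htop : (zpowers t).subgroupOf H ⊔ (zpowers x).subgroupOf H = ⊤ := by
        rw [← subgroupOf_sup le_sup_right le_sup_left, subgroupOf_eq_top]
        exact (sup_comm _ _).le
      rw [relIndex, ← relIndex_top_right, ← htop, relIndex_sup_right]
      refine (relIndex_dvd_card _ _).trans ?_
      rw [Nat.card_congr (subgroupOfEquivOfLe (show zpowers t ≤ H from le_sup_right)).toEquiv,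
        Nat.card_zpowers, hto]
    rw [← h1]
    exact mul_dvd_mul_left r h3
  have hπH : ∀ p : ℕ, p.Prime → p ∣ Nat.card H → p ∈ π := fun p hp hpd => by
    rcases (Nat.Prime.dvd_mul hp).1 (hpd.trans hcard) with h | h
    · exact (Nat.prime_dvd_prime_iff_eq hp hr).1 h ▸ hrπ
    · exact (Nat.prime_dvd_prime_iff_eq hp Nat.prime_two).1 h ▸ h2
  have hz : IsPGroup 2 (zpowers (⟨t, mem_sup_right (mem_zpowers t)⟩ : H)) :=
    IsPGroup.of_card (n := 1) (by rw [Nat.card_zpowers, orderOf_mk, hto, pow_one])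
  obtain ⟨P, hP⟩ := hz.exists_le_sylow
  haveI := hcl H hπH P
  have hP2 : Nat.card (P : Subgroup H) ∣ 2 := by
    obtain ⟨k, hk⟩ := IsPGroup.iff_card.1 P.2
    have h1 := (card_subgroup_dvd_card (P : Subgroup H)).trans hcard
    rw [hk] at h1 ⊢
    exact (Nat.Coprime.pow_left k ((Nat.coprime_primes Nat.prime_two hr).2 hr2.symm)).dvd_of_dvd_mul_left h1
  set t' : H := ⟨t, mem_sup_right (mem_zpowers t)⟩ with ht'
  set x' : H := ⟨x, mem_sup_left (mem_zpowers x)⟩ with hx'
  have ht'P : t' ∈ (P : Subgroup H) := hP (mem_zpowers t')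
  have hconj : x' * t' * x'⁻¹ = t' := by
    have hc : Nat.card (P : Subgroup H) = 2 := by
      refine ((Nat.dvd_prime Nat.prime_two).1 hP2).resolve_left fun e => ht1 ?_
      rw [card_eq_one] at e
      exact congrArg Subtype.val (show t' = (1 : H) from mem_bot.1 (e.le ht'P))
    have hm := (inferInstance : (P : Subgroup H).Normal).conj_mem t' ht'P x'
    exact congrArg Subtype.val (((Nat.card_eq_two_iff' (1 : (P : Subgroup H))).1 hc).unique
      (y₁ := ⟨_, hm⟩) (y₂ := ⟨t', ht'P⟩)
      (fun e => ht1 (congrArg Subtype.val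
        (conj_eq_one_iff.1 (show x' * t' * x'⁻¹ = 1 from congrArg Subtype.val e))))
      (fun e => ht1 (congrArg Subtype.val (show t' = (1 : H) from congrArg Subtype.val e))))
  have hxc : x * t = t * x := mul_inv_eq_iff_eq_mul.1 (congrArg Subtype.val hconj)
  have : x = x⁻¹ := by
    conv_lhs => rw [← mul_inv_cancel_right x t, hxc, hxt]
  have h2' := orderOf_dvd_of_pow_eq_one (x := x) (n := 2)
    (by rw [sq]; nth_rewrite 2 [this]; exact mul_inv_cancel x)
  rw [hx] at h2'
  exact hr2 ((Nat.prime_dvd_prime_iff_eq hr Nat.prime_two).1 h2')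

omit [Finite G] in
/-- π-homogeneity puts the prime order of an automorphism of a π-subgroup into π. -/
theorem mem_of_acts
    (hhom : ∀ H : Subgroup G, H ≠ ⊥ → (∀ p : ℕ, p.Prime → p ∣ Nat.card ↥H → p ∈ π) →
      ∀ p : ℕ, p.Prime → p ∣ (centralizer (H : Set G)).relIndex (normalizer (H : Set G)) → p ∈ π)
    {H : Subgroup G} (hH : H ≠ ⊥) (hπ : ∀ p : ℕ, p.Prime → p ∣ Nat.card ↥H → p ∈ π)
    {d : G} {r : ℕ} (hr : r.Prime) (hd : orderOf d = r) (hn : d ∈ normalizer (H : Set G))
    (hc : d ∉ centralizer (H : Set G)) : r ∈ π := by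
  haveI := Fact.mk hr
  refine hhom H hH hπ r hr ?_
  rw [relIndex, ← normalizerMonoidHom_ker, index_ker]
  have h1 : orderOf (H.normalizerMonoidHom ⟨d, hn⟩) = r := by
    refine orderOf_eq_prime ?_ fun e => hc ?_
    · rw [← map_pow, show (⟨d, hn⟩ : normalizer (H : Set G)) ^ r = 1 from
        Subtype.ext (by rw [SubmonoidClass.coe_pow, ← hd, pow_orderOf_eq_one]; rfl), map_one]
    · exact mem_subgroupOf.1 (normalizerMonoidHom_ker H ▸ MonoidHom.mem_ker.2 e :
        (⟨d, hn⟩ : normalizer (H : Set G)) ∈ (centralizer (H : Set G)).subgroupOf _)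
  rw [← h1]
  exact Subgroup.orderOf_dvd_natCard _ ⟨_, rfl⟩

/-- The four-group case of the characterisation of π-homogeneous groups. -/
theorem klein_false (hGW : CfsgLib.Recog.GW.PerfectDihedral.{u}) [IsSimpleGroup G]
    (hG : ¬ IsMulCommutative G) (h2 : 2 ∈ π)
    (hcl : ∀ H : Subgroup G, (∀ p : ℕ, p.Prime → p ∣ Nat.card ↥H → p ∈ π) →
      ∀ P : Sylow 2 ↥H, (P : Subgroup ↥H).Normal)
    (hhom : ∀ H : Subgroup G, H ≠ ⊥ → (∀ p : ℕ, p.Prime → p ∣ Nat.card ↥H → p ∈ π) →
      ∀ p : ℕ, p.Prime → p ∣ (centralizer (H : Set G)).relIndex (normalizer (H : Set G)) → p ∈ π)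
    (S : Sylow 2 G) (hS : IsKleinFour (S : Subgroup G)) : False := by
  classical
  haveI := hS
  haveI : Fact (Nat.Prime 2) := ⟨Nat.prime_two⟩
  set V : Subgroup G := (S : Subgroup G) with hV
  haveI : IsMulCommutative V := IsPGroup.isMulCommutative_of_card_eq_prime_sq (p := 2)
    (by rw [IsKleinFour.card_four]; rfl)
  have hV1 : V ≠ ⊥ := fun e => by
    have := IsKleinFour.card_four (G := V)
    rw [e, card_bot] at this
    omega
  have h4 : ¬ 2 ^ 3 ∣ Nat.card G := fun h => by
    have := S.pow_dvd_card_of_pow_dvd_card h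
    rw [hS.card_four] at this
    norm_num at this
  -- three lies in π
  have h3π : 3 ∈ π := by
    obtain ⟨u, hu, hu1⟩ := V.bot_or_exists_ne_one.resolve_left hV1
    have huo : orderOf u = 2 := orderOf_eq_prime (by
      have := Monoid.pow_exponent_eq_one (⟨u, hu⟩ : V)
      rw [hS.exponent_two] at this
      exact congrArg Subtype.val this) hu1
    obtain ⟨v, hv, hvS, hvu⟩ := CfsgLib.InvChar.exists_other_conj_mem_sylow hG S huo hu
    obtain ⟨g, rfl⟩ := isConj_iff.1 hv
    obtain ⟨n, hn, hne⟩ := S.conj_eq_normalizer_conj_of_mem u g⁻¹ hu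
      (show g⁻¹⁻¹ * u * g⁻¹ ∈ V by rw [inv_inv]; exact hvS)
    rw [inv_inv] at hne
    have hncen : n⁻¹ ∉ centralizer (V : Set G) := fun h => hvu (by
      rw [hne, ← mem_centralizer_iff.1 h u hu, inv_mul_cancel_right])
    have hdvd : (centralizer (V : Set G)).relIndex (normalizer (V : Set G)) ∣ 6 := by
      rw [relIndex, ← normalizerMonoidHom_ker, index_ker]
      let f : MulAut V →* Equiv.Perm {x : V // x ≠ 1} :=
        MonoidHom.mk' (fun φ => φ.toEquiv.subtypeEquiv fun x => by simp)
          (fun φ ψ => Equiv.ext fun x => rfl)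
      have hf : Function.Injective f := fun φ ψ h => by
        refine MulEquiv.ext fun x => ?_
        by_cases hx : x = 1
        · rw [hx, map_one, map_one]
        · exact congrArg Subtype.val (Equiv.congr_fun h ⟨x, hx⟩)
      have hc : Nat.card {x : V // x ≠ 1} = 3 := by
        haveI := Fintype.ofFinite V
        rw [Nat.card_eq_fintype_card, Fintype.card_subtype_compl, Fintype.card_subtype_eq,
          ← Nat.card_eq_fintype_card, hS.card_four]
      have h6 : Nat.card (Equiv.Perm {x : V // x ≠ 1}) = 6 := by rw [Nat.card_perm, hc]; rfl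
      exact ((card_subgroup_dvd_card _).trans (h6 ▸ card_dvd_of_injective f hf))
    have hne1 : (centralizer (V : Set G)).relIndex (normalizer (V : Set G)) ≠ 1 := fun e =>
      hncen (relIndex_eq_one.1 e (inv_mem hn))
    have hodd : ¬ 2 ∣ (centralizer (V : Set G)).relIndex (normalizer (V : Set G)) := fun h =>
      S.not_dvd_index (h.trans ((relIndex_dvd_of_le_left _ V.le_centralizer).trans
        (relIndex_dvd_index_of_le le_normalizer)))
    refine hhom V hV1 (fun p hp hpd => ?_) 3 Nat.prime_three ?_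
    · rw [hS.card_four] at hpd
      exact (Nat.prime_dvd_prime_iff_eq hp Nat.prime_two).1 (hp.dvd_of_dvd_pow (n := 2) hpd) ▸ h2
    · set k := (centralizer (V : Set G)).relIndex (normalizer (V : Set G))
      have := Nat.le_of_dvd (by norm_num) hdvd
      interval_cases k <;> omega
  haveI : Group.IsPerfect G := ⟨(inferInstance : (_root_.commutator G).Normal).eq_bot_or_eq_top.resolve_left
    fun h => hG ⟨⟨fun a b => commutatorElement_eq_one_iff_mul_comm.1
      (mem_bot.1 (h ▸ commutator_mem_commutator (mem_top a) (mem_top b)))⟩⟩⟩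
  have hcore : Cfsg.oddCore G = ⊥ := by
    refine (Cfsg.pPrimeCore_normal 2 G).eq_bot_or_eq_top.resolve_right fun h => ?_
    have hodd : Odd (Nat.card (Cfsg.pPrimeCore 2 G)) := CfsgLib.Invol.odd_card_oddCore G
    rw [h, card_top] at hodd
    have h2 : 2 ∣ Nat.card G := by
      refine dvd_trans ?_ (card_subgroup_dvd_card V)
      rw [hS.card_four]; norm_num
    exact (Nat.not_even_iff_odd.2 hodd) (even_iff_two_dvd.2 h2)
  let e0 : G ≃* G ⧸ Cfsg.oddCore G :=
    QuotientGroup.quotientBot.symm.trans (QuotientGroup.quotientMulEquivOfEq hcore.symm)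
  rcases hGW G S 2 le_rfl IsKleinFour.nonempty_mulEquiv
    with ⟨F, iF, jF, hodd, hgt, ⟨e'⟩⟩ | ⟨⟨e'⟩⟩
  on_goal 2 =>
    refine h4 ?_
    rw [Nat.card_congr (e0.trans e').toEquiv, nat_card_alternatingGroup, Nat.card_fin]
    decide
  · let e := e0.trans e'
    have hF2 : (2 : F) ≠ 0 := by
      intro h
      have hc := FiniteField.cast_card_eq_zero F
      obtain ⟨j, hj⟩ := hodd
      rw [hj, Nat.cast_add, Nat.cast_mul, Nat.cast_ofNat, h, zero_mul, zero_add, Nat.cast_one] at hc
      exact one_ne_zero hc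
    by_cases h3 : (3 : F) = 0
    · by_cases hex : ∃ r : ℕ, r.Prime ∧ r ≠ 2 ∧ r ∣ Fintype.card F - 1
      · obtain ⟨r, hr, hr2, hdvd⟩ := hex
        haveI := Fact.mk hr
        obtain ⟨d, t, H, hd, ht, hdt, hH, hH1, hdn, hdc⟩ := exists_inverted_torus h3 hr2 hdvd
        set H' := H.map e.symm.toMonoidHom with hH'
        have hdn' : e.symm d ∈ normalizer (H' : Set G) := by
          have h1 : (normalizer (H : Set _)).map e.symm.toMonoidHom ≤ normalizer (H' : Set G) :=
            le_normalizer_map _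
          exact h1 ⟨d, hdn, rfl⟩
        have hdc' : e.symm d ∉ centralizer (H' : Set G) := fun h => hdc (mem_centralizer_iff.2
          fun y hy => e.symm.injective (by
            rw [map_mul, map_mul]; exact mem_centralizer_iff.1 h _ ⟨y, hy, rfl⟩))
        have hrπ : r ∈ π := by
          refine mem_of_acts hhom (fun h0 => hH1 ((map_eq_bot_iff_of_injective _
            e.symm.injective).1 h0)) (fun p hp hpd => ?_) hr (by rw [MulEquiv.orderOf_eq, hd])
            hdn' hdc'
          haveI : Fact (Nat.Prime 3) := ⟨Nat.prime_three⟩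
          obtain ⟨k, hk⟩ := IsPGroup.iff_card.1 (hH.map e.symm.toMonoidHom)
          rw [hk] at hpd
          exact (Nat.prime_dvd_prime_iff_eq hp Nat.prime_three).1 (hp.dvd_of_dvd_pow hpd) ▸ h3π
        exact false_of_inverted h2 hcl hr hr2 hrπ (x := e.symm d) (t := e.symm t)
          (by rw [MulEquiv.orderOf_eq, hd]) (by rw [← map_mul, ht, map_one])
          (by rw [← map_inv, ← map_mul, ← map_mul, hdt, map_inv])
      · push Not at hex
        set q := Fintype.card F with hq
        have hcardG : 2 * Nat.card G = q * (q ^ 2 - 1) := by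
          rw [Nat.card_congr e.toEquiv]
          exact CfsgLib.Pres.two_mul_card_psl F hF2
        have hq1 : 0 < q - 1 := by have := Fintype.one_lt_card (α := F); omega
        obtain ⟨k, hk⟩ : ∃ k, q - 1 = 2 ^ k := by
          refine ⟨(q - 1).primeFactorsList.length, Nat.eq_prime_pow_of_unique_prime_dvd hq1.ne'
            fun {d} hd hdd => ?_⟩
          by_contra hne
          exact hex d hd hne hdd
        have hk3 : k < 3 := by
          by_contra hk3
          obtain ⟨j, hj⟩ := hodd
          refine h4 ((Nat.mul_dvd_mul_iff_left (by norm_num : 0 < 2)).1 ?_)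
          rw [hcardG]
          have hsq : q ^ 2 - 1 = (q - 1) * (q + 1) := by
            rw [← one_pow 2, Nat.sq_sub_sq, one_pow, mul_comm]
          rw [hsq, hk]
          have h8 : 2 ^ 3 ∣ 2 ^ k := pow_dvd_pow 2 (by omega)
          have h22 : 2 ∣ q + 1 := ⟨j + 1, by omega⟩
          exact (mul_comm (2 ^ 3) 2 ▸ mul_dvd_mul h8 h22).mul_left q
        have hq5 : q = 5 := by
          obtain ⟨j, hj⟩ := hodd
          interval_cases k <;> omega
        have h5 : ((5 : ℕ) : F) = 0 := by rw [← hq5]; exact FiniteField.cast_card_eq_zero F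
        exact hF2 (by push_cast at h5; linear_combination h5 - h3)
    · obtain ⟨x, t, hx, ht, hxt⟩ := exists_inverted_three hF2 h3
      exact false_of_inverted h2 hcl Nat.prime_three (by norm_num) h3π (x := e.symm x)
        (t := e.symm t) (by rw [MulEquiv.orderOf_eq, hx]) (by rw [← map_mul, ht, map_one])
        (by rw [← map_inv, ← map_mul, ← map_mul, hxt, map_inv])

end CfsgLib.InvChar.PiHomog
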